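import Cfsg.Agent.Lib.CosetEnum.Pres
set_option autoImplicit false
set_option maxRecDepth 100000
namespace H74.JJ.EK3
open H54 (Tr force band)
open H18.TC
noncomputable def T_0 : Tr := (.node (nat_lit 0) (.leaf (nat_lit 0xc9590003bd00000037947700097e00033e0000003982fa03c00029e00080f0002da3190009ff00023f5b465327b1fc03c9df19f0005754d61dc21b00c99e3d841700011f0de15d0249bf3592ba07f17d0fd0be00000025b1bc13d09e05f03f)) (.node (nat_lit 1) (.leaf (nat_lit 0x2400000000079a0000007b102400090f0007170007520000300000006930006d777186e00c0006b288e67b0005f463301800000000000059b6135d500c00000000000055c5160000240000000004bc0005354f603c9383fd4386f2731497458)) (.leaf (nat_lit 0x180008b38d200083900085200c0000008f10007fa7d0000))))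
noncomputable def J_0 : Tr := (.node (nat_lit 0) (.leaf (nat_lit 0x820c8000000001800000000004004000041184000000000400000000000000040040000010010000000000000000001000004479400000000100000000040001010012230a0400400000000000000000040000411e400000000000000000010200200008886280000000000400400010000000002000000000000000000000000080701006)) (.node (nat_lit 1) (.leaf (nat_lit 0x10010000000000000080000000000000008008000000006000000000000000200200000000180000000000000000000000100000000000800800040000000000000000000020020000000010000000000000000000000010200200000000000000000000400400000000000002000040800800020000000000000080003)) (.leaf (nat_lit 0x40000008008000000004000000000000030000000004080080000))))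
noncomputable def F_0 : Tr := (.node (nat_lit 2) (.node (nat_lit 0) (.leaf (nat_lit 0)) (.node (nat_lit 1) (.leaf (nat_lit 0)) (.leaf (nat_lit 0)))) (.node (nat_lit 3) (.leaf (nat_lit 0)) (.node (nat_lit 4) (.leaf (nat_lit 0)) (.leaf (nat_lit 0)))))
noncomputable def T : Tr := T_0
noncomputable def J : Tr := J_0
noncomputable def F : Tr := F_0
noncomputable def row (u : ℕ) : ℕ := Nat.land (Nat.shiftRight (force (Nat.shiftRight u (nat_lit 3)) T.get) (Nat.mul (Nat.land u (nat_lit 7)) (nat_lit 96))) (nat_lit 0xffffffffffffffffffffffff)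
noncomputable def jrow (u : ℕ) : ℕ := Nat.land (Nat.shiftRight (force (Nat.shiftRight u (nat_lit 3)) J.get) (Nat.mul (Nat.land u (nat_lit 7)) (nat_lit 133))) (nat_lit 0x1fffffffffffffffffffffffffffffffff)
noncomputable def fget (k fx : ℕ) : ℕ := F.get (Nat.add k fx)
noncomputable def wt0 : LT := (.node (nat_lit 1) (.node (nat_lit 0) (.leaf 15 1 [nat_lit 36, nat_lit 12, nat_lit 0, nat_lit 12, nat_lit 0, nat_lit 24])
(.leaf 15 6 [nat_lit 24, nat_lit 0, nat_lit 36, nat_lit 12, nat_lit 0, nat_lit 12]))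
(.node (nat_lit 3) (.node (nat_lit 2) (.leaf 13 3 [nat_lit 60, nat_lit 0, nat_lit 60])
(.leaf 15 4 [nat_lit 12, nat_lit 0, nat_lit 24, nat_lit 0, nat_lit 36, nat_lit 12]))
(.leaf 0 0 [])))
noncomputable def wt1 : LT := (.node (nat_lit 2) (.node (nat_lit 0) (.leaf 17 1 [nat_lit 60, nat_lit 12, nat_lit 0, nat_lit 12, nat_lit 0, nat_lit 48])
(.node (nat_lit 1) (.leaf 17 3 [nat_lit 0, nat_lit 12, nat_lit 0, nat_lit 48, nat_lit 12, nat_lit 60])
(.leaf 11 3 [nat_lit 36, nat_lit 12, nat_lit 36])))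
(.leaf 0 0 []))
noncomputable def wt2 : LT := (.node (nat_lit 0) (.leaf 11 0 [nat_lit 12, nat_lit 36, nat_lit 12])
(.node (nat_lit 2) (.node (nat_lit 1) (.leaf 7 0 [nat_lit 36, nat_lit 36])
(.leaf 19 0 [nat_lit 48, nat_lit 36, nat_lit 48, nat_lit 36, nat_lit 48]))
(.leaf 0 0 [])))
noncomputable def wt3 : LT := (.leaf 0 0 [])
noncomputable def wt4 : LT := (.node (nat_lit 1) (.node (nat_lit 0) (.leaf 13 0 [nat_lit 0, nat_lit 60, nat_lit 0])
(.leaf 9 0 [nat_lit 60, nat_lit 60]))
(.node (nat_lit 2) (.leaf 17 2 [nat_lit 12, nat_lit 0, nat_lit 12, nat_lit 0, nat_lit 48, nat_lit 12])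
(.leaf 0 0 [])))
noncomputable def wt5 : LT := (.leaf 0 0 [])
noncomputable def wt6 : LT := (.node (nat_lit 0) (.leaf 18 0 [nat_lit 24, nat_lit 60, nat_lit 24, nat_lit 60, nat_lit 24, nat_lit 60])
(.leaf 0 0 []))
noncomputable def sl : List (ℕ × ℕ × List ℕ × List ℕ) := [(0, nat_lit 0, [], []),
(2, nat_lit 12, [], [])]
/-- the inverse column -/
noncomputable def icol (x : ℕ) : ℕ := List.getD [nat_lit 0, nat_lit 1, nat_lit 3, nat_lit 2, nat_lit 5, nat_lit 4] x x
noncomputable def inv (x : ℕ) : ℕ := Nat.mul (icol (Nat.div x (nat_lit 12))) (nat_lit 12)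
def cols : List ℕ := [nat_lit 72, nat_lit 0, nat_lit 12, nat_lit 24, nat_lit 36, nat_lit 48, nat_lit 60]
noncomputable def cl : CL := (.cons (nat_lit 0) (nat_lit 0) (nat_lit 0) (nat_lit 0) wt0
(.cons (nat_lit 12) (nat_lit 12) (nat_lit 19) (nat_lit 1) wt1
(.cons (nat_lit 24) (nat_lit 36) (nat_lit 38) (nat_lit 2) wt2
(.cons (nat_lit 36) (nat_lit 24) (nat_lit 57) (nat_lit 3) wt3
(.cons (nat_lit 48) (nat_lit 60) (nat_lit 76) (nat_lit 4) wt4
(.cons (nat_lit 60) (nat_lit 48) (nat_lit 95) (nat_lit 5) wt5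
.nil))))))
def rels : List (List ℕ) := [[0, 0],
[1, 1],
[0, 1, 0, 1, 0, 1, 0, 1],
[2, 2, 2],
[4, 4, 4],
[2, 1, 2, 1],
[4, 0, 4, 0],
[3, 0, 1, 0, 1, 2, 0],
[5, 0, 1, 0, 1, 4, 1],
[2, 5, 2, 5, 2, 5]]
def subs : List (List ℕ) := [[0],
[1]]
noncomputable def chk : ℕ → Bool := rowChk row jrow fget sl cols (nat_lit 1) (nat_lit 18) (nat_lit 4095) (nat_lit 31) (nat_lit 4096) (nat_lit 72) (nat_lit 84) (nat_lit 524287) (nat_lit 6) (nat_lit 63) (nat_lit 1) (nat_lit 1) cl (nat_lit 114) wt6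
theorem p0 : allB chk 5 0 = true := by decide +kernel
theorem all_chk : AllLt chk 18 := by
  have h := AllLt.zero chk
  have h := h.step 18 p0 (by decide +kernel)
  exact h
/-- column `x` of the final table -/
noncomputable def tab (x u : ℕ) : ℕ := ft fget (nat_lit 6) (nat_lit 63) (nat_lit 1) (nat_lit 1) (Nat.mul x (nat_lit 1)) u
theorem enum {G Ω : Type*} [Group G] [MulAction G Ω] (g : ℕ → G) (ω : Ω)
    (hinv : ∀ x, g (icol x) = (g x)⁻¹) (h1 : g 6 = 1)
    (hrels : ∀ R ∈ rels, ev g R = 1) (hsubs : ∀ S ∈ subs, ev g S • ω = ω) :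
    ∃ pt : ℕ → Ω, pt 0 = ω ∧ (∀ K : Subgroup G, (∀ x, g x ∈ K) → ∀ v, ∃ k ∈ K, pt v = k • ω) ∧
      ∀ x, x < 6 → ∀ u, u < 1 → tab x u < 1 ∧ g x • pt u = pt (tab x u) :=
  sound_scaled g ω row jrow fget sl inv icol cols (nat_lit 1) (nat_lit 18) (nat_lit 4095) (nat_lit 31) (nat_lit 4096) (nat_lit 72) (nat_lit 84) (nat_lit 524287) (nat_lit 6) (nat_lit 63) (nat_lit 1) (nat_lit 1) 5 cl (nat_lit 114) wt6 rels subs 12 (nat_lit 1) 6
    (fun _ => Nat.mul_div_cancel _ (by decide)) hinv h1 hrels hsubs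
    (by decide +kernel) (by decide +kernel) all_chk
end H74.JJ.EK3
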